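import Mathlib

/-!
A group generated by involutions which permute a set of "positive roots" in the usual way is a
Coxeter group.
-/

namespace CoxPresLib

open List

variable {B : Type*}

/-- The alternating word of length `n` starting with `a`. -/
def alt : B → B → ℕ → List B
  | _, _, 0 => []
  | a, b, n + 1 => a :: alt b a n

@[simp] theorem length_alt (a b : B) (n : ℕ) : (alt a b n).length = n := by
  induction n generalizing a b with
  | zero => rfl
  | succ n ih => simp [alt, ih]

theorem alt_prod_eq_iff {H : Type*} [Group H] (s : B → H) (hs : ∀ a, s a * s a = 1) (a b : B) (n : ℕ) :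
    ((alt a b n).map s).prod = ((alt b a n).map s).prod ↔ (s a * s b) ^ n = 1 := by
  have key : ∀ a b k, ((alt a b (2 * k)).map s).prod = (s a * s b) ^ k ∧
      ((alt a b (2 * k + 1)).map s).prod = (s a * s b) ^ k * s a := by
    intro a b k
    induction k with
    | zero => simp [alt]
    | succ k ih =>
      refine ⟨?_, ?_⟩
      · rw [show 2 * (k + 1) = (2 * k) + 1 + 1 by ring, alt, alt, map_cons, map_cons, prod_cons, prod_cons, ih.1,
          pow_succ', mul_assoc]
      · rw [show 2 * (k + 1) + 1 = (2 * k + 1) + 1 + 1 by ring, alt, alt, map_cons, map_cons, prod_cons, prod_cons,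
          ih.2, pow_succ' _ k, mul_assoc, mul_assoc]
  have hinv : s b * s a = (s a * s b)⁻¹ := by
    rw [mul_inv_rev, inv_eq_of_mul_eq_one_right (hs a), inv_eq_of_mul_eq_one_right (hs b)]
  obtain ⟨k, rfl | rfl⟩ := Nat.even_or_odd' n
  · rw [(key a b k).1, (key b a k).1, hinv, inv_pow, eq_inv_iff_mul_eq_one, ← pow_add, ← two_mul]
  · rw [(key a b k).2, (key b a k).2, hinv, inv_pow, eq_inv_mul_iff_mul_eq, ← mul_assoc, ← pow_add, ← two_mul]
    have hb' : (s b)⁻¹ = s b := inv_eq_of_mul_eq_one_right (hs b)
    rw [pow_succ, ← mul_assoc, ← mul_inv_eq_one (b := s b), hb']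

/-- A group acting on a set with positive elements in the manner of a Weyl group. -/
structure Data (B : Type*) (W : Type*) [Group W] (X : Type*) [MulAction W X] where
  s : B → W
  α : B → X
  Pos : X → Prop
  gen : Subgroup.closure (Set.range s) = ⊤
  invol : ∀ a, s a * s a = 1
  pos_simple : ∀ a, Pos (α a)
  flip : ∀ a x, Pos x → x ≠ α a → Pos (s a • x)
  neg : ∀ (w : W) a, Pos (w • α a) → ¬ Pos (w • s a • α a)
  conj : ∀ (w : W) a b, w • α a = α b → w * s a * w⁻¹ = s b

variable {W : Type*} [Group W] {X : Type*} [MulAction W X] (D : Data B W X)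

/-- The product of a word. -/
def Data.pw (l : List B) : W := (l.map D.s).prod

@[simp] theorem Data.pw_nil : D.pw [] = 1 := rfl
@[simp] theorem Data.pw_cons (a : B) (l : List B) : D.pw (a :: l) = D.s a * D.pw l := by simp [Data.pw]
theorem Data.pw_append (l l' : List B) : D.pw (l ++ l') = D.pw l * D.pw l' := by simp [Data.pw]

theorem Data.inv_s (a : B) : (D.s a)⁻¹ = D.s a := inv_eq_of_mul_eq_one_right (D.invol a)

theorem Data.exists_word (w : W) : ∃ l, D.pw l = w := by
  have hw : w ∈ Subgroup.closure (Set.range D.s) := D.gen ▸ Subgroup.mem_top w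
  induction hw using Subgroup.closure_induction with
  | mem x hx => obtain ⟨a, rfl⟩ := hx; exact ⟨[a], by simp⟩
  | one => exact ⟨[], rfl⟩
  | mul x y _ _ hx hy =>
    obtain ⟨l, rfl⟩ := hx; obtain ⟨l', rfl⟩ := hy
    exact ⟨l ++ l', D.pw_append _ _⟩
  | inv x _ hx =>
    obtain ⟨l, rfl⟩ := hx
    refine ⟨l.reverse, ?_⟩
    clear * -
    induction l with
    | nil => simp
    | cons a l ih => rw [reverse_cons, D.pw_append, ih, pw_cons, pw_cons, pw_nil, mul_one, mul_inv_rev, D.inv_s]

/-- Exchange: the main computation. -/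
theorem Data.exchange_aux (l : List B) : ∀ (g : W) (b : B), D.Pos (g • D.α b) →
    ¬ D.Pos ((D.pw l)⁻¹ • g • D.α b) →
    ∃ i < l.length, g * D.s b * g⁻¹ * D.pw l = D.pw (l.eraseIdx i) := by
  induction l with
  | nil => intro g b h h'; rw [pw_nil, inv_one, one_smul] at h'; exact absurd h h'
  | cons a u ih =>
    intro g b h h'
    by_cases hx : g • D.α b = D.α a
    · refine ⟨0, Nat.succ_pos _, ?_⟩
      rw [D.conj g b a hx, pw_cons, ← mul_assoc, D.invol, one_mul, eraseIdx_zero, tail_cons]
    · have h1 : D.Pos ((D.s a * g) • D.α b) := by rw [mul_smul]; exact D.flip a _ h hx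
      rw [pw_cons, mul_inv_rev, D.inv_s, mul_smul, ← mul_smul (D.s a) g] at h'
      obtain ⟨i, hi, he⟩ := ih (D.s a * g) b h1 h'
      refine ⟨i + 1, Nat.succ_lt_succ hi, ?_⟩
      rw [eraseIdx_cons_succ, pw_cons, pw_cons, ← he, mul_inv_rev, D.inv_s]
      simp only [← mul_assoc]
      rw [D.invol, one_mul]

theorem Data.exchange (l : List B) (b : B) (h : ¬ D.Pos ((D.pw l)⁻¹ • D.α b)) :
    ∃ i < l.length, D.s b * D.pw l = D.pw (l.eraseIdx i) := by
  obtain ⟨i, hi, he⟩ := D.exchange_aux l 1 b (by rw [one_smul]; exact D.pos_simple b) (by rwa [one_smul])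
  exact ⟨i, hi, by simpa using he⟩

/-- A word is minimal. -/
def Data.Min (l : List B) : Prop := ∀ l', D.pw l' = D.pw l → l.length ≤ l'.length

theorem Data.exists_min (w : W) : ∃ l, D.pw l = w ∧ D.Min l := by
  classical
  have hex : ∃ n, ∃ l, l.length = n ∧ D.pw l = w := by
    obtain ⟨l, hl⟩ := D.exists_word w; exact ⟨_, l, rfl, hl⟩
  obtain ⟨l, hl, hw⟩ := Nat.find_spec hex
  exact ⟨l, hw, fun l' h' => hl ▸ Nat.find_min' hex ⟨l', rfl, h'.trans hw⟩⟩

theorem Data.min_of_append {l l' : List B} (h : D.Min (l ++ l')) : D.Min l ∧ D.Min l' := by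
  constructor <;> intro u hu
  · have := h (u ++ l') (by rw [D.pw_append, D.pw_append, hu]); simp at this; omega
  · have := h (l ++ u) (by rw [D.pw_append, D.pw_append, hu]); simp at this; omega

/-- If a minimal word of `w` can start with `b` then every minimal word admits an exchange. -/
theorem Data.exchange_of_cons {l : List B} {b : B} {v : List B} (hmin : D.Min l) (hw : D.pw (b :: v) = D.pw l)
    (hlen : (b :: v).length = l.length) :
    ∃ i < l.length, D.pw (b :: l.eraseIdx i) = D.pw l ∧ (b :: l.eraseIdx i).length = l.length := by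
  have hneg : ¬ D.Pos ((D.pw l)⁻¹ • D.α b) := by
    intro hpos
    have h1 : ¬ D.Pos ((D.pw v)⁻¹ • D.α b) := by
      have : (D.pw v)⁻¹ • D.α b = (D.pw l)⁻¹ • D.s b • D.α b := by
        rw [← mul_smul, ← hw, pw_cons, mul_inv_rev, D.inv_s, mul_assoc, D.invol, mul_one]
      rw [this]
      exact D.neg _ _ hpos
    obtain ⟨i, hi, he⟩ := D.exchange v b h1
    have hmin' := hmin (v.eraseIdx i) (by rw [← he, ← pw_cons, hw])
    rw [length_eraseIdx_of_lt hi] at hmin'
    simp only [length_cons] at hlen
    omega
  obtain ⟨i, hi, he⟩ := D.exchange l b hneg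
  exact ⟨i, hi, by rw [pw_cons, ← he, ← mul_assoc, D.invol, one_mul],
    by rw [length_cons, length_eraseIdx_of_lt hi]; omega⟩

section
variable {G : Type*} [Monoid G] (f : B → G)

/-- Matsumoto: minimal words for the same element have the same image. -/
theorem Data.map_prod_eq (hf : ∀ a b n, D.pw (alt a b n) = D.pw (alt b a n) →
      ((alt a b n).map f).prod = ((alt b a n).map f).prod) :
    ∀ (n : ℕ) (l l' : List B), l.length = n → l'.length = n → D.Min l → D.pw l = D.pw l' →
      (l.map f).prod = (l'.map f).prod := by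
  intro n
  induction n with
  | zero => intro l l' h h' _ _; rw [length_eq_zero_iff.1 h, length_eq_zero_iff.1 h']
  | succ n IH =>
    have same_head : ∀ (a : B) (u v : List B), (a :: u).length = n + 1 → (a :: v).length = n + 1 →
        D.Min (a :: u) → D.pw (a :: u) = D.pw (a :: v) → ((a :: u).map f).prod = ((a :: v).map f).prod := by
      intro a u v hu hv hm hw
      rw [map_cons, map_cons, prod_cons, prod_cons, IH u v (by simpa using hu) (by simpa using hv)
        (D.min_of_append (l := [a]) hm).2 (by simpa using hw)]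
    have same_last : ∀ (a : B) (u v : List B), (u ++ [a]).length = n + 1 → (v ++ [a]).length = n + 1 →
        D.Min (u ++ [a]) → D.pw (u ++ [a]) = D.pw (v ++ [a]) → ((u ++ [a]).map f).prod = ((v ++ [a]).map f).prod := by
      intro a u v hu hv hm hw
      simp only [map_append, prod_append]
      rw [IH u v (by simpa using hu) (by simpa using hv) (D.min_of_append hm).1 (by simpa [D.pw_append] using hw)]
    have main : ∀ (j : ℕ) (a b : B) (k : ℕ) (u : List B) (v : List B), u.length = j → 1 ≤ k → k + j = n + 1 →
        (b :: v).length = n + 1 → D.Min (alt a b k ++ u) → D.pw (alt a b k ++ u) = D.pw (b :: v) →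
        ((alt a b k ++ u).map f).prod = ((b :: v).map f).prod := by
      intro j
      induction j with
      | zero =>
        intro a b k u v hu hk hkn hv hm hw
        obtain rfl := length_eq_zero_iff.1 hu
        rw [append_nil] at hm hw ⊢
        obtain rfl : k = n + 1 := by omega
        obtain ⟨i, hi, hpw, hlen⟩ := D.exchange_of_cons hm hw.symm (by rw [hv, length_alt])
        rw [length_alt] at hi hlen
        have hL : ((b :: (alt a b (n + 1)).eraseIdx i).map f).prod = ((b :: v).map f).prod :=
          same_head b _ v hlen hv (fun l'' h'' => hlen.le.trans ((length_alt a b (n + 1)) ▸ hm l'' (h''.trans hpw)))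
            (hpw.trans hw)
        rw [← hL]
        obtain ⟨A, z, hA⟩ : ∃ A z, alt a b (n + 1) = A ++ [z] :=
          ⟨_, _, (dropLast_append_getLast (by simp [alt])).symm⟩
        have hAl : A.length = n := by simpa [length_alt] using (congrArg length hA).symm
        rw [hA] at hpw hm hlen ⊢
        by_cases hin : i < A.length
        · rw [eraseIdx_append_of_lt_length hin] at hpw ⊢
          rw [← cons_append] at hpw ⊢
          exact same_last z A (b :: A.eraseIdx i) (by simp [hAl])
            (by simp [length_eraseIdx_of_lt hin, hAl]; omega) hm hpw.symm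
        · obtain rfl : i = n := by omega
          rw [eraseIdx_append_of_length_le (by omega), hAl, Nat.sub_self, eraseIdx_zero, tail_cons, append_nil] at hpw ⊢
          have hb : b :: A = alt b a (i + 1) := by
            have e : ∀ (k : ℕ) (a b : B), (alt a b (k + 1)).dropLast = alt a b k := by
              intro k
              induction k with
              | zero => intro a b; rfl
              | succ k ih => intro a b; rw [alt, dropLast_cons_of_ne_nil (by simp [alt]), ih, ← alt]
            rw [alt]
            congr 1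
            have := e i a b
            rwa [hA, dropLast_concat] at this
          rw [← hA] at hpw ⊢
          rw [hb] at hpw ⊢
          exact hf a b (i + 1) hpw.symm
      | succ j ih =>
        intro a b k u v hu hk hkn hv hm hw
        obtain ⟨A, z, rfl⟩ : ∃ A z, u = A ++ [z] :=
          ⟨_, _, (dropLast_append_getLast (length_pos_iff.1 (by omega))).symm⟩
        simp only [length_append, length_singleton] at hu
        rw [← append_assoc] at hm hw ⊢
        obtain ⟨i, hi, hpw, hlen⟩ := D.exchange_of_cons hm hw.symm (by simp at hv ⊢; omega)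
        have hl0 : (alt a b k ++ A ++ [z]).length = n + 1 := by simp; omega
        rw [hl0] at hi hlen
        have hm' : D.Min (b :: (alt a b k ++ A ++ [z]).eraseIdx i) := fun l'' h'' => by
          have := hm l'' (h''.trans hpw); omega
        have hL := same_head b _ v hlen hv hm' (hpw.trans hw)
        rw [← hL]
        by_cases hin : i < (alt a b k ++ A).length
        · rw [eraseIdx_append_of_lt_length hin] at hpw hlen ⊢
          rw [← cons_append] at hpw hlen ⊢
          exact same_last z _ _ (by simp; omega) hlen hm hpw.symm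
        · have hieq : i = (alt a b k ++ A).length := by simp at hin ⊢; omega
          rw [eraseIdx_append_of_length_le (by omega), hieq, Nat.sub_self, eraseIdx_zero, tail_cons, append_nil] at hpw hm' hlen ⊢
          have hb : b :: (alt a b k ++ A) = alt b a (k + 1) ++ A := by rw [alt, cons_append]
          obtain ⟨k', rfl⟩ : ∃ k', k = k' + 1 := ⟨k - 1, by omega⟩
          rw [hb] at hpw hm' hlen ⊢
          have hhead : alt a b (k' + 1) ++ A ++ [z] = a :: (alt b a k' ++ A ++ [z]) := by simp [alt]
          rw [hhead] at hpw hl0 ⊢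
          exact (ih b a (k' + 1 + 1) A _ (by omega) (by omega) (by omega) hl0 hm' hpw).symm
    intro l l' hl hl' hm hw
    obtain ⟨a, u, rfl⟩ := exists_cons_of_length_eq_add_one hl
    obtain ⟨b, v, rfl⟩ := exists_cons_of_length_eq_add_one hl'
    exact main n a b 1 u v (by simpa using hl) le_rfl (by omega) hl' hm hw

/-- The universal property. -/
theorem Data.exists_lift (hsq : ∀ a, f a * f a = 1) (hf : ∀ a b n, D.pw (alt a b n) = D.pw (alt b a n) →
      ((alt a b n).map f).prod = ((alt b a n).map f).prod) : ∃ φ : W →* G, ∀ a, φ (D.s a) = f a := by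
  choose r hr hmin using D.exists_min
  let φ : W → G := fun w => ((r w).map f).prod
  have hφ : ∀ l, D.Min l → φ (D.pw l) = (l.map f).prod := fun l hl => by
    refine D.map_prod_eq f hf l.length _ _ ?_ rfl (hmin _) (hr _)
    exact le_antisymm (hmin _ _ (hr _).symm) (hl _ (hr _))
  have hstep : ∀ a w, φ (D.s a * w) = f a * φ w := by
    intro a w
    by_cases h : D.Pos (w⁻¹ • D.α a)
    · have hm : D.Min (a :: r w) := by
        intro l' hl'
        rw [pw_cons, hr] at hl'
        have hneg : ¬ D.Pos ((D.pw l')⁻¹ • D.α a) := by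
          rw [hl', mul_inv_rev, D.inv_s, mul_smul]; exact D.neg _ _ h
        obtain ⟨i, hi, he⟩ := D.exchange l' a hneg
        have := hmin w (l'.eraseIdx i) (by rw [← he, hl', hr, ← mul_assoc, D.invol, one_mul])
        rw [length_eraseIdx_of_lt hi] at this
        simp only [length_cons]; omega
      have := hφ _ hm
      rw [pw_cons, hr, map_cons, prod_cons] at this
      exact this
    · obtain ⟨i, hi, he⟩ := D.exchange (r w) a (by rwa [hr])
      rw [hr] at he
      have hw : D.pw (a :: (r w).eraseIdx i) = w := by rw [pw_cons, ← he, ← mul_assoc, D.invol, one_mul]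
      have hlen : (a :: (r w).eraseIdx i).length = (r w).length := by
        rw [length_cons, length_eraseIdx_of_lt hi]; omega
      have hm : D.Min (a :: (r w).eraseIdx i) := fun l' hl' => hlen ▸ hmin w l' (hl'.trans (hw.trans (hr w).symm))
      have h1 := hφ _ hm
      have h2 := hφ _ (D.min_of_append (l := [a]) hm).2
      rw [hw, map_cons, prod_cons] at h1
      rw [he, h2, h1, ← mul_assoc, hsq, one_mul]
  have h1 : φ 1 = 1 := by
    have : r 1 = [] := length_eq_zero_iff.1 (Nat.le_zero.1 (hmin 1 [] (by rw [hr]; rfl)))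
    simp [φ, this]
  have hmul : ∀ l y, φ (D.pw l * y) = (l.map f).prod * φ y := by
    intro l y
    induction l with
    | nil => simp
    | cons a l ih => rw [pw_cons, mul_assoc, hstep, ih, map_cons, prod_cons, mul_assoc]
  refine ⟨⟨⟨φ, h1⟩, fun x y => ?_⟩, fun a => ?_⟩
  · show φ (x * y) = φ x * φ y
    obtain ⟨l, rfl⟩ := D.exists_word x
    have := hmul l 1
    rw [mul_one, h1, mul_one] at this
    rw [hmul, this]
  · show φ (D.s a) = f a
    have := hmul [a] 1
    simpa [h1] using this

end

/-- The Coxeter matrix of orders. -/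
theorem Data.exists_coxeterSystem (hne : ∀ a b, a ≠ b → D.s a * D.s b ≠ 1) :
    ∃ (C : CoxeterMatrix B) (cs : CoxeterSystem C W),
      (∀ a, cs.simple a = D.s a) ∧ ∀ a b, C.M a b = orderOf (D.s a * D.s b) := by
  let C : CoxeterMatrix B :=
    { M := Matrix.of fun a b => orderOf (D.s a * D.s b)
      isSymm := by
        ext a b
        show orderOf (D.s b * D.s a) = orderOf (D.s a * D.s b)
        rw [← orderOf_inv, mul_inv_rev, D.inv_s, D.inv_s]
      diagonal := fun a => by
        show orderOf (D.s a * D.s a) = 1
        rw [D.invol, orderOf_one]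
      off_diagonal := fun a b hab h => hne a b hab (orderOf_eq_one_iff.1 h) }
  have hCM : ∀ a b, C.M a b = orderOf (D.s a * D.s b) := fun a b => rfl
  have hsq : ∀ a, C.simple a * C.simple a = 1 := fun a => C.toCoxeterSystem.simple_mul_simple_self a
  have hliftC : ∀ a b n, D.pw (alt a b n) = D.pw (alt b a n) →
      ((alt a b n).map C.simple).prod = ((alt b a n).map C.simple).prod := by
    intro a b n h
    rw [Data.pw, Data.pw, alt_prod_eq_iff D.s D.invol] at h
    rw [alt_prod_eq_iff C.simple hsq]
    obtain ⟨q, hq⟩ := orderOf_dvd_of_pow_eq_one h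
    rw [hq, ← hCM, pow_mul]
    have := C.toCoxeterSystem.simple_mul_simple_pow a b
    simp only [CoxeterMatrix.toCoxeterSystem_simple] at this
    rw [show (C.simple a * C.simple b) ^ C.M a b = 1 from this, one_pow]
  obtain ⟨φ, hφ⟩ := D.exists_lift C.simple hsq hliftC
  have hlif : C.IsLiftable D.s := fun a b => by rw [hCM]; exact pow_orderOf_eq_one _
  let ψ : C.Group →* W := C.toCoxeterSystem.lift ⟨D.s, hlif⟩
  have hψ : ∀ a, ψ (C.simple a) = D.s a := fun a => C.toCoxeterSystem.lift_apply_simple hlif a
  have h1 : ψ.comp φ = MonoidHom.id W := MonoidHom.eq_of_eqOn_dense D.gen (by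
    rintro _ ⟨a, rfl⟩; simp [hφ, hψ])
  have h2 : φ.comp ψ = MonoidHom.id C.Group := C.toCoxeterSystem.ext_simple fun a => by
    simp [hφ, hψ]
  let e : C.Group ≃* W := MonoidHom.toMulEquiv ψ φ h2 h1
  exact ⟨C, C.toCoxeterSystem.map e, fun a => by simp [e, hψ], hCM⟩

end CoxPresLib
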